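import Groth.Agent.Lib.UCat26.DimEq
import Groth.Agent.Lib.DimFormula14.Scheme
import Groth.Agent.S0553
import Groth.Prelude.Def_Cyc

/-! # Dimension functions -/

set_option autoImplicit false
universe u

set_option backward.isDefEq.respectTransparency.types false

open CategoryTheory AlgebraicGeometry Order

namespace Groth.Agent.UCat26

variable {X : Scheme.{u}} {δ : X → ℤ}

theorem comap_le_iff {A B : Type u} [CommRing A] [CommRing B] (g : A →+* B) (hg : Function.Surjective g)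
    (p q : PrimeSpectrum B) : PrimeSpectrum.comap g p ≤ PrimeSpectrum.comap g q ↔ p ≤ q := by
  rw [← PrimeSpectrum.asIdeal_le_asIdeal, ← PrimeSpectrum.asIdeal_le_asIdeal]
  exact Ideal.comap_le_comap_iff_of_surjective _ hg _ _

theorem specializes_map_iff {A : CommRingCat.{u}} (g : Spec A ⟶ X) (hg : Topology.IsEmbedding g)
    (p q : PrimeSpectrum A) : g p ⤳ g q ↔ p ≤ q :=
  hg.isInducing.specializes_iff.trans (PrimeSpectrum.le_iff_specializes p q).symm

theorem delta_lt_of_lt (hd : Cyc.IsDimFun X δ) {y x : X} (h : y < x) : δ y < δ x :=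
  (hd x y h.le fun e => h.ne e.symm).1

theorem delta_le_of_specializes (hd : Cyc.IsDimFun X δ) {y x : X} (h : x ⤳ y) : δ y ≤ δ x := by
  rcases eq_or_ne x y with rfl | hne
  · rfl
  · exact (hd x y h hne).1.le

/-- There is a chain of length `δ x - δ y` between `y` and `x`. -/
theorem exists_series (hd : Cyc.IsDimFun X δ) : ∀ (n : ℕ) (x y : X), x ⤳ y → δ x - δ y ≤ n →
    ∃ l : LTSeries X, l.head = y ∧ l.last = x ∧ (l.length : ℤ) = δ x - δ y := by
  intro n
  induction n with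
  | zero =>
    intro x y h hn
    obtain rfl : x = y := by
      by_contra hne
      have := (hd x y h hne).1
      simp at hn; omega
    exact ⟨RelSeries.singleton _ x, rfl, rfl, by simp⟩
  | succ n ih =>
    intro x y h hn
    rcases eq_or_ne x y with rfl | hne
    · exact ⟨RelSeries.singleton _ x, rfl, rfl, by simp⟩
    have hyx : y < x := lt_of_le_not_ge h fun h' => hne ((Specializes.antisymm h (show y ⤳ x from h')).eq)
    by_cases himm : ∀ z : X, x ⤳ z → z ⤳ y → z = x ∨ z = y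
    · refine ⟨⟨1, ![y, x], fun i => ?_⟩, ?_, ?_, ?_⟩
      · fin_cases i; exact hyx
      · show (![y, x] : Fin 2 → X) 0 = y
        rfl
      · show (![y, x] : Fin 2 → X) (Fin.last 1) = x
        rfl
      · have := (hd x y h hne).2 himm
        push_cast; omega
    · push Not at himm
      obtain ⟨z, hxz, hzy, h1, h2⟩ := himm
      have e1 := (hd x z hxz h1.symm).1
      have e2 := (hd z y hzy h2).1
      obtain ⟨a, ha1, ha2, ha3⟩ := ih z y hzy (by push_cast at hn; omega)
      obtain ⟨b, hb1, hb2, hb3⟩ := ih x z hxz (by push_cast at hn; omega)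
      refine ⟨a.smash b (ha2.trans hb1.symm), ?_, ?_, ?_⟩
      · rw [RelSeries.head_smash, ha1]
      · rw [RelSeries.last_smash, hb2]
      · rw [RelSeries.smash_length]; push_cast; omega

/-- An order which embeds onto the interval between `y` and `x` has dimension `δ x - δ y`. -/
theorem krullDim_eq (hd : Cyc.IsDimFun X δ) {x y : X} (h : x ⤳ y) {P : Type*} [PartialOrder P] (φ : P → X)
    (hφ : ∀ p q, p ≤ q ↔ φ p ⤳ φ q) (hsub : ∀ p, x ⤳ φ p ∧ δ y ≤ δ (φ p))
    (hsup : ∀ z, x ⤳ z → z ⤳ y → ∃ p, φ p = z) :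
    krullDim P = ((δ x - δ y).toNat : WithBot ℕ∞) := by
  have h0 : 0 ≤ δ x - δ y := sub_nonneg.2 (delta_le_of_specializes hd h)
  refine le_antisymm ?_ ?_
  · refine iSup_le fun l => ?_
    have hm : StrictMono (fun i => δ (φ (l.reverse i))) := fun i j hij => by
      have hlt : l.reverse.toFun j < l.reverse.toFun i := by
        have := l.strictMono (Fin.rev_lt_rev.2 hij)
        exact this
      refine (hd _ _ ((hφ _ _).1 hlt.le) fun e => hlt.ne ?_).1
      exact le_antisymm ((hφ _ _).2 (specializes_of_eq e)) ((hφ _ _).2 (specializes_of_eq e.symm))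
    have := (LTSeries.mk _ _ hm).head_add_length_le_int
    have h1 : δ y ≤ δ (φ (l.reverse.toFun 0)) := (hsub _).2
    have h2 : δ (φ (l.reverse.toFun (Fin.last _))) ≤ δ x := delta_le_of_specializes hd (hsub _).1
    have h3 : δ (φ (l.reverse.toFun 0)) + l.length ≤ δ (φ (l.reverse.toFun (Fin.last _))) := this
    exact_mod_cast (show l.length ≤ (δ x - δ y).toNat by omega)
  · obtain ⟨l, hl0, hl1, hl⟩ := exists_series hd (δ x - δ y).toNat x y h (by omega)
    have hmem : ∀ i, ∃ p, φ p = l i := fun i => hsup _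
      (show x ⤳ l i from hl1 ▸ LTSeries.monotone l (Fin.le_last i))
      (show l i ⤳ y from hl0 ▸ LTSeries.monotone l (Fin.zero_le i))
    choose g hg using hmem
    have hs : StrictMono (g ∘ Fin.rev) := fun i j hij => by
      have hlt := l.strictMono (Fin.rev_lt_rev.2 hij)
      refine lt_of_le_not_ge ((hφ _ _).2 ?_) fun hh => ?_
      · simp only [Function.comp, hg]; exact hlt.le
      · have hh' := (hφ _ _).1 hh
        simp only [Function.comp, hg] at hh'
        exact hlt.not_ge hh'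
    have := (LTSeries.mk _ _ hs).length_le_krullDim
    rw [show ((δ x - δ y).toNat : ℕ) = l.length by omega]
    exact this

/-- Heights in an affine chart are differences of the dimension function. -/
theorem height_map_primeIdealOf (hd : Cyc.IsDimFun X δ) {U : X.Opens} (hU : IsAffineOpen U) {x y : X}
    (hx : x ∈ U) (hy : y ∈ U) (h : x ⤳ y) :
    ((hU.primeIdealOf ⟨y, hy⟩).asIdeal.map (Ideal.Quotient.mk (hU.primeIdealOf ⟨x, hx⟩).asIdeal)).height =
      ((δ x - δ y).toNat : ℕ∞) := by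
  set P := (hU.primeIdealOf ⟨x, hx⟩).asIdeal
  set Q := (hU.primeIdealOf ⟨y, hy⟩).asIdeal
  have hPQ : P ≤ Q := (VarDim.primeIdealOf_le_iff hU ⟨x, hx⟩ ⟨y, hy⟩).2 h
  haveI hQ' : (Q.map (Ideal.Quotient.mk P)).IsPrime :=
    Ideal.map_isPrime_of_surjective Ideal.Quotient.mk_surjective (by rwa [Ideal.mk_ker])
  rw [show (Q.map (Ideal.Quotient.mk P)).height = Order.height (⟨_, hQ'⟩ : PrimeSpectrum (Γ(X, U) ⧸ P)) from
    PrimeSpectrum.height_eq_orderHeight (⟨_, hQ'⟩ : PrimeSpectrum (Γ(X, U) ⧸ P))]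
  have hle : ∀ p q : PrimeSpectrum (Γ(X, U) ⧸ P), p ≤ q ↔ hU.fromSpec (PrimeSpectrum.comap (Ideal.Quotient.mk P) p) ⤳
      hU.fromSpec (PrimeSpectrum.comap (Ideal.Quotient.mk P) q) := fun p q => by
    exact ((specializes_map_iff hU.fromSpec hU.fromSpec.isOpenEmbedding.isEmbedding _ _).trans
      (comap_le_iff _ Ideal.Quotient.mk_surjective p q)).symm
  have hQeq : PrimeSpectrum.comap (Ideal.Quotient.mk P) ⟨_, hQ'⟩ = hU.primeIdealOf ⟨y, hy⟩ := by
    ext1
    show (Q.map (Ideal.Quotient.mk P)).comap (Ideal.Quotient.mk P) = Q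
    rw [Ideal.comap_map_of_surjective _ Ideal.Quotient.mk_surjective, ← RingHom.ker_eq_comap_bot, Ideal.mk_ker,
      sup_eq_left.2 hPQ]
  have key := krullDim_eq hd h
    (fun p : Set.Iic (⟨_, hQ'⟩ : PrimeSpectrum (Γ(X, U) ⧸ P)) =>
      hU.fromSpec (PrimeSpectrum.comap (Ideal.Quotient.mk P) p.1))
    (fun p q => hle p.1 q.1)
    (fun p => by
      refine ⟨?_, delta_le_of_specializes hd ?_⟩
      · refine (specializes_of_eq (hU.fromSpec_primeIdealOf ⟨x, hx⟩).symm).trans ?_
        refine (specializes_map_iff hU.fromSpec hU.fromSpec.isOpenEmbedding.isEmbedding _ _).2 ?_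
        show P ≤ _
        exact (Ideal.mk_ker (I := P)).ge.trans (Ideal.ker_le_comap _)
      · have := (hle p.1 _).1 p.2
        rwa [hQeq, hU.fromSpec_primeIdealOf] at this)
    (fun z hxz hzy => by
      have hz : z ∈ U := hzy.mem_open U.isOpen hy
      have hPz : P ≤ (hU.primeIdealOf ⟨z, hz⟩).asIdeal := (VarDim.primeIdealOf_le_iff hU ⟨x, hx⟩ ⟨z, hz⟩).2 hxz
      have hzQ : (hU.primeIdealOf ⟨z, hz⟩).asIdeal ≤ Q := (VarDim.primeIdealOf_le_iff hU ⟨z, hz⟩ ⟨y, hy⟩).2 hzy
      refine ⟨⟨⟨(hU.primeIdealOf ⟨z, hz⟩).asIdeal.map (Ideal.Quotient.mk P),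
        Ideal.map_isPrime_of_surjective Ideal.Quotient.mk_surjective (by rwa [Ideal.mk_ker])⟩,
        (PrimeSpectrum.asIdeal_le_asIdeal _ _).1 (Ideal.map_mono hzQ)⟩, ?_⟩
      refine Eq.trans (congrArg hU.fromSpec ?_) (hU.fromSpec_primeIdealOf ⟨z, hz⟩)
      refine PrimeSpectrum.ext ?_
      show ((hU.primeIdealOf ⟨z, hz⟩).asIdeal.map (Ideal.Quotient.mk P)).comap (Ideal.Quotient.mk P) = _
      rw [Ideal.comap_map_of_surjective _ Ideal.Quotient.mk_surjective, ← RingHom.ker_eq_comap_bot, Ideal.mk_ker,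
        sup_eq_left.2 hPz])
  rw [← Order.height_eq_krullDim_Iic] at key
  exact WithBot.coe_eq_coe.1 key

theorem fromSpecStalk_ker {x y : X} (h : x ⤳ y) :
    X.fromSpecStalk y (⟨RingHom.ker (Cyc.specMap y x h), RingHom.ker_isPrime _⟩ : PrimeSpectrum _) = x := by
  have e : (⟨RingHom.ker (Cyc.specMap y x h), RingHom.ker_isPrime _⟩ : PrimeSpectrum (X.presheaf.stalk y)) =
      PrimeSpectrum.comap (X.presheaf.stalkSpecializes h).hom (IsLocalRing.closedPoint (X.presheaf.stalk x)) := by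
    ext1
    show RingHom.ker ((X.residue x).hom.comp (X.presheaf.stalkSpecializes h).hom) =
      (IsLocalRing.maximalIdeal (X.presheaf.stalk x)).comap _
    rw [← RingHom.comap_ker]
    congr 1
    exact Ideal.mk_ker
  rw [e]
  show (Spec.map (X.presheaf.stalkSpecializes h) ≫ X.fromSpecStalk y) (IsLocalRing.closedPoint _) = x
  rw [Scheme.SpecMap_stalkSpecializes_fromSpecStalk, Scheme.fromSpecStalk_closedPoint]

/-- The dimension of the local ring of the closure of `x` at `y`. -/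
theorem ringKrullDim_locQuot (hd : Cyc.IsDimFun X δ) (x y : X) (h : x ⤳ y) :
    ringKrullDim (Cyc.LocQuot y x h) = ((δ x - δ y).toNat : WithBot ℕ∞) := by
  let φ : PrimeSpectrum (Cyc.LocQuot y x h) → X := fun p =>
    X.fromSpecStalk y (PrimeSpectrum.comap (Ideal.Quotient.mk (RingHom.ker (Cyc.specMap y x h))) p)
  have hker := fromSpecStalk_ker h
  refine krullDim_eq hd h φ (fun p q => ?_) (fun p => ⟨?_, delta_le_of_specializes hd ?_⟩) fun z hxz hzy => ?_
  · exact ((specializes_map_iff (X.fromSpecStalk y) (X.fromSpecStalk y).isEmbedding _ _).trans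
      (comap_le_iff _ Ideal.Quotient.mk_surjective p q)).symm
  · rw [← hker]
    refine Specializes.map ((PrimeSpectrum.le_iff_specializes _ _).1 ?_) (X.fromSpecStalk y).continuous
    exact (Ideal.mk_ker).ge.trans (Ideal.ker_le_comap _)
  · have hr : φ p ∈ Set.range (X.fromSpecStalk y) := ⟨_, rfl⟩
    rw [Scheme.range_fromSpecStalk] at hr
    exact hr
  · have hr : z ∈ Set.range (X.fromSpecStalk y) := by rw [Scheme.range_fromSpecStalk]; exact hzy
    obtain ⟨q, rfl⟩ := hr
    replace hxz := (specializes_map_iff (X.fromSpecStalk y) (X.fromSpecStalk y).isEmbedding _ _).1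
      ((specializes_of_eq hker).trans hxz)
    have hq : q ∈ Set.range (PrimeSpectrum.comap (Ideal.Quotient.mk (RingHom.ker (Cyc.specMap y x h)))) := by
      rw [range_comap_of_surjective _ _ Ideal.Quotient.mk_surjective, Ideal.mk_ker]
      exact hxz
    obtain ⟨p, hp⟩ := hq
    refine ⟨p, ?_⟩
    exact congrArg (X.fromSpecStalk y) hp

theorem isUniversallyCatenary_of_stalks {S : Scheme.{u}} [IsLocallyNoetherian S]
    (huc : ∀ s : S, CAlg.IsUniversallyCatenary (S.presheaf.stalk s)) {V : S.Opens} (hV : IsAffineOpen V) :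
    CAlg.IsUniversallyCatenary Γ(S, V) := by
  haveI : IsNoetherianRing Γ(S, V) := IsLocallyNoetherian.component_noetherian ⟨V, hV⟩
  refine (S0553.result Γ(S, V)).2 fun m hm => ?_
  let p : PrimeSpectrum Γ(S, V) := ⟨m, hm.isPrime⟩
  letI := TopCat.Presheaf.algebra_section_stalk S.presheaf (⟨hV.fromSpec p, VarDim.fromSpec_mem hV p⟩ : V)
  haveI := hV.isLocalization_stalk ⟨hV.fromSpec p, VarDim.fromSpec_mem hV p⟩
  haveI : IsLocalization.AtPrime (S.presheaf.stalk (hV.fromSpec p)) m := by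
    have e := congrArg PrimeSpectrum.asIdeal (VarDim.primeIdealOf_fromSpec hV p)
    have i := hV.isLocalization_stalk ⟨hV.fromSpec p, VarDim.fromSpec_mem hV p⟩
    revert i
    generalize_proofs a b
    intro i
    change IsLocalization (Ideal.primeCompl m) _
    convert i using 2
    exact e.symm
  exact UCat.isUniversallyCatenary_of_surjective
    (IsLocalization.algEquiv m.primeCompl (S.presheaf.stalk (hV.fromSpec p)) (Localization.AtPrime m)).toRingEquiv.toRingHom
    (IsLocalization.algEquiv m.primeCompl (S.presheaf.stalk (hV.fromSpec p)) (Localization.AtPrime m)).surjective (huc _)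

/-- The dimension formula for dimension functions. -/
theorem delta_sub_eq {S : Scheme.{u}} [IsLocallyNoetherian S] (f : X ⟶ S) [LocallyOfFiniteType f]
    (huc : ∀ s : S, CAlg.IsUniversallyCatenary (S.presheaf.stalk s)) {δS : S → ℤ} (hdS : Cyc.IsDimFun S δS)
    (hδ : Cyc.DeltaCompat f δ δS) {x y : X} (h : x ⤳ y) {U : X.Opens} {V : S.Opens} (hU : IsAffineOpen U)
    (hV : IsAffineOpen V) (e : U ≤ f ⁻¹ᵁ V) (hx : x ∈ U) (hy : y ∈ U) :
    δ x - δ y = (((hU.primeIdealOf ⟨y, hy⟩).asIdeal.map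
      (Ideal.Quotient.mk (hU.primeIdealOf ⟨x, hx⟩).asIdeal)).height.toNat : ℤ) := by
  haveI : IsNoetherianRing Γ(S, V) := IsLocallyNoetherian.component_noetherian ⟨V, hV⟩
  letI : Algebra Γ(S, V) Γ(X, U) := (f.appLE V U e).hom.toAlgebra
  haveI : Algebra.FiniteType Γ(S, V) Γ(X, U) := f.finiteType_appLE hV hU e
  haveI : IsNoetherianRing Γ(X, U) := Algebra.FiniteType.isNoetherianRing Γ(S, V) Γ(X, U)
  have hP : ∀ (z : X) (hz : z ∈ U), (hV.primeIdealOf ⟨f z, e hz⟩).asIdeal =
      (hU.primeIdealOf ⟨z, hz⟩).asIdeal.under Γ(S, V) := fun z hz =>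
    congrArg PrimeSpectrum.asIdeal (IsAffineOpen.comap_primeIdealOf_appLE V hV U hU e hz).symm
  let p := (hV.primeIdealOf ⟨f y, e hy⟩).asIdeal
  let q := (hU.primeIdealOf ⟨y, hy⟩).asIdeal
  let P := (hV.primeIdealOf ⟨f x, e hx⟩).asIdeal
  let Q := (hU.primeIdealOf ⟨x, hx⟩).asIdeal
  haveI : q.LiesOver p := ⟨hP y hy⟩
  haveI : Q.LiesOver P := ⟨hP x hx⟩
  have hQq : Q ≤ q := (VarDim.primeIdealOf_le_iff hU ⟨x, hx⟩ ⟨y, hy⟩).2 h
  have hPp : P ≤ p := ((hP x hx).le.trans (Ideal.comap_mono hQq)).trans (hP y hy).ge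
  let R' := Γ(S, V) ⧸ P
  let S' := Γ(X, U) ⧸ Q
  haveI := DimFormula14.faithfulSMul_quotient P Q
  let p' : Ideal R' := p.map (Ideal.Quotient.mk P)
  let q' : Ideal S' := q.map (Ideal.Quotient.mk Q)
  haveI : p'.IsPrime := Ideal.map_isPrime_of_surjective Ideal.Quotient.mk_surjective (by rwa [Ideal.mk_ker])
  haveI : q'.IsPrime := Ideal.map_isPrime_of_surjective Ideal.Quotient.mk_surjective (by rwa [Ideal.mk_ker])
  have hp' : p'.comap (Ideal.Quotient.mk P) = p := by
    rw [Ideal.comap_map_of_surjective _ Ideal.Quotient.mk_surjective, ← RingHom.ker_eq_comap_bot, Ideal.mk_ker,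
      sup_eq_left.2 hPp]
  have hq' : q'.comap (Ideal.Quotient.mk Q) = q := by
    rw [Ideal.comap_map_of_surjective _ Ideal.Quotient.mk_surjective, ← RingHom.ker_eq_comap_bot, Ideal.mk_ker,
      sup_eq_left.2 hQq]
  haveI : q'.LiesOver p' := ⟨by
    refine Ideal.comap_injective_of_surjective _ Ideal.Quotient.mk_surjective ?_
    rw [hp', Ideal.under, Ideal.comap_comap]
    show p = _
    rw [show (algebraMap R' S').comp (Ideal.Quotient.mk P) = (Ideal.Quotient.mk Q).comp (algebraMap Γ(S, V) Γ(X, U))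
      from rfl, ← Ideal.comap_comap, hq']
    exact hP y hy⟩
  haveI : Algebra.FiniteType Γ(S, V) S' := .trans (R := Γ(S, V)) (S := Γ(X, U)) inferInstance inferInstance
  haveI : Algebra.FiniteType R' S' := .of_restrictScalars_finiteType Γ(S, V) R' S'
  have key := height_add_tr_eq R' (UCat.isUniversallyCatenary_of_surjective (Ideal.Quotient.mk P)
    Ideal.Quotient.mk_surjective (isUniversallyCatenary_of_stalks huc hV)) S' p' q'
  have e1 : DimFormula14.tr R' S' = (FibDim14.rd f x : ℕ∞) := DimFormula14.tr_eq_rd f hU hV e hx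
  have e2 : DimFormula14.tr (Γ(S, V) ⧸ p) (Γ(X, U) ⧸ q) = (FibDim14.rd f y : ℕ∞) :=
    DimFormula14.tr_eq_rd f hU hV e hy
  have e3 : DimFormula14.tr (R' ⧸ p') (S' ⧸ q') = DimFormula14.tr (Γ(S, V) ⧸ p) (Γ(X, U) ⧸ q) := by
    let a : (R' ⧸ p') ≃+* (Γ(S, V) ⧸ p) := DoubleQuot.quotQuotEquivQuotOfLE hPp
    let b : (S' ⧸ q') ≃+* (Γ(X, U) ⧸ q) := DoubleQuot.quotQuotEquivQuotOfLE hQq
    rw [DimFormula14.tr, DimFormula14.tr]
    congr 1
    letI alg : Algebra (R' ⧸ p') (Γ(X, U) ⧸ q) := (b.toRingHom.comp (algebraMap (R' ⧸ p') (S' ⧸ q'))).toAlgebra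
    let b' : (S' ⧸ q') ≃ₐ[R' ⧸ p'] (Γ(X, U) ⧸ q) := AlgEquiv.ofRingEquiv (f := b) fun _ => rfl
    rw [b'.trdeg_eq]
    letI : Algebra (R' ⧸ p') (Γ(S, V) ⧸ p) := a.toRingHom.toAlgebra
    haveI : FaithfulSMul (R' ⧸ p') (Γ(S, V) ⧸ p) := (faithfulSMul_iff_algebraMap_injective _ _).2 a.injective
    haveI := DimFormula14.faithfulSMul_quotient p q
    haveI : IsScalarTower (R' ⧸ p') (Γ(S, V) ⧸ p) (Γ(X, U) ⧸ q) := IsScalarTower.of_algebraMap_eq fun z => by
      obtain ⟨z, rfl⟩ := Ideal.Quotient.mk_surjective z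
      obtain ⟨z, rfl⟩ := Ideal.Quotient.mk_surjective z
      rfl
    haveI : Algebra.IsAlgebraic (R' ⧸ p') (Γ(S, V) ⧸ p) := ⟨fun w => by
      obtain ⟨r, rfl⟩ := a.surjective w
      exact isAlgebraic_algebraMap r⟩
    have h' := trdeg_add_eq (R' ⧸ p') (Γ(S, V) ⧸ p) (A := Γ(X, U) ⧸ q)
    rw [trdeg_eq_zero (R := R' ⧸ p') (A := Γ(S, V) ⧸ p), zero_add] at h'
    exact h'.symm
  have e4 : p'.height = ((δS (f x) - δS (f y)).toNat : ℕ∞) :=
    height_map_primeIdealOf hdS hV (e hx) (e hy) (h.map f.continuous)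
  rw [e1, e3, e2, e4] at key
  have hrd : ∀ z, δ z = δS (f z) + FibDim14.rd f z := fun z => by
    obtain ⟨n, hn, hz⟩ := hδ z
    have hrz : Cardinal.toNat (FibDim14.rdeg f z) = n := (congrArg Cardinal.toNat hn).trans (Cardinal.toNat_natCast n)
    rw [hz, FibDim14.rd, hrz]
  obtain ⟨k, hk⟩ := ENat.ne_top_iff_exists.1 (Ideal.height_ne_top_of_isPrime (I := q'))
  rw [← hk] at key ⊢
  rw [ENat.toNat_natCast, hrd, hrd]
  have hkey : k + FibDim14.rd f y = (δS (f x) - δS (f y)).toNat + FibDim14.rd f x := by exact_mod_cast key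
  have hnn := delta_le_of_specializes hdS (h.map f.continuous)
  omega

theorem isDimFun_of_deltaCompat {S : Scheme.{u}} (f : X ⟶ S) [LocallyOfFiniteType f] [IsLocallyNoetherian S]
    (huc : ∀ s : S, CAlg.IsUniversallyCatenary (S.presheaf.stalk s)) {δS : S → ℤ} (hdS : Cyc.IsDimFun S δS)
    (hδ : Cyc.DeltaCompat f δ δS) : Cyc.IsDimFun X δ := by
  intro x y h hne
  obtain ⟨U, V, hU, hV, e, hy⟩ := VarDim.exists_chart f y
  haveI : IsNoetherianRing Γ(S, V) := IsLocallyNoetherian.component_noetherian ⟨V, hV⟩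
  letI : Algebra Γ(S, V) Γ(X, U) := (f.appLE V U e).hom.toAlgebra
  haveI : Algebra.FiniteType Γ(S, V) Γ(X, U) := f.finiteType_appLE hV hU e
  haveI : IsNoetherianRing Γ(X, U) := Algebra.FiniteType.isNoetherianRing Γ(S, V) Γ(X, U)
  have hx : x ∈ U := h.mem_open U.isOpen hy
  have key := delta_sub_eq f huc hdS hδ h hU hV e hx hy
  set P := (hU.primeIdealOf ⟨x, hx⟩).asIdeal
  set Q := (hU.primeIdealOf ⟨y, hy⟩).asIdeal
  have hPQ : P ≤ Q := (VarDim.primeIdealOf_le_iff hU ⟨x, hx⟩ ⟨y, hy⟩).2 h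
  haveI hQ' : (Q.map (Ideal.Quotient.mk P)).IsPrime :=
    Ideal.map_isPrime_of_surjective Ideal.Quotient.mk_surjective (by rwa [Ideal.mk_ker])
  have hcm : (Q.map (Ideal.Quotient.mk P)).comap (Ideal.Quotient.mk P) = Q := by
    rw [Ideal.comap_map_of_surjective _ Ideal.Quotient.mk_surjective, ← RingHom.ker_eq_comap_bot, Ideal.mk_ker,
      sup_eq_left.2 hPQ]
  have hne' : P ≠ Q := fun e' => hne (by
    have : hU.primeIdealOf ⟨x, hx⟩ = hU.primeIdealOf ⟨y, hy⟩ := PrimeSpectrum.ext e'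
    exact (hU.fromSpec_primeIdealOf ⟨x, hx⟩).symm.trans ((congrArg hU.fromSpec this).trans (hU.fromSpec_primeIdealOf ⟨y, hy⟩)))
  have hb : (⊥ : Ideal (Γ(X, U) ⧸ P)) < Q.map (Ideal.Quotient.mk P) := by
    refine bot_lt_iff_ne_bot.2 fun h0 => hne' (le_antisymm hPQ ?_)
    rw [← hcm, h0, ← RingHom.ker_eq_comap_bot, Ideal.mk_ker]
  obtain ⟨k, hk⟩ := ENat.ne_top_iff_exists.1 (Ideal.height_ne_top_of_isPrime (I := Q.map (Ideal.Quotient.mk P)))
  have h1 := Ideal.height_strict_mono_of_isPrime hb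
  rw [Ideal.height_bot, ← hk] at h1
  have hkpos : 0 < k := by exact_mod_cast h1
  rw [← hk, ENat.toNat_natCast] at key
  refine ⟨by omega, fun himm => ?_⟩
  have h2 : (Q.map (Ideal.Quotient.mk P)).height ≤ 1 := by
    rw [show (Q.map (Ideal.Quotient.mk P)).height = Order.height (⟨_, hQ'⟩ : PrimeSpectrum (Γ(X, U) ⧸ P)) from
      PrimeSpectrum.height_eq_orderHeight (⟨_, hQ'⟩ : PrimeSpectrum (Γ(X, U) ⧸ P))]
    refine Order.height_le_coe_iff.2 fun w hw => ?_
    let z := hU.fromSpec (PrimeSpectrum.comap (Ideal.Quotient.mk P) w)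
    have hxz : x ⤳ z := by
      refine (specializes_of_eq (hU.fromSpec_primeIdealOf ⟨x, hx⟩).symm).trans ?_
      refine (specializes_map_iff hU.fromSpec hU.fromSpec.isOpenEmbedding.isEmbedding _ _).2 ?_
      show P ≤ _
      exact (Ideal.mk_ker (I := P)).ge.trans (Ideal.ker_le_comap _)
    have hzy : z ⤳ y := by
      refine Specializes.trans ?_ (specializes_of_eq (hU.fromSpec_primeIdealOf ⟨y, hy⟩))
      refine (specializes_map_iff hU.fromSpec hU.fromSpec.isOpenEmbedding.isEmbedding _ _).2 ?_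
      show w.asIdeal.comap _ ≤ Q
      exact (Ideal.comap_mono hw.le).trans hcm.le
    rcases himm z hxz hzy with hz | hz
    · have : w = ⊥ := by
        have e' : PrimeSpectrum.comap (Ideal.Quotient.mk P) w = hU.primeIdealOf ⟨x, hx⟩ :=
          hU.fromSpec.isOpenEmbedding.injective (hz.trans (hU.fromSpec_primeIdealOf ⟨x, hx⟩).symm)
        ext1
        refine Ideal.comap_injective_of_surjective _ Ideal.Quotient.mk_surjective ?_
        exact (congrArg PrimeSpectrum.asIdeal e').trans ((Ideal.mk_ker (I := P)).symm.trans (RingHom.ker_eq_comap_bot _))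
      rw [this, Order.height_bot]
      exact zero_lt_one
    · exfalso
      have e' : PrimeSpectrum.comap (Ideal.Quotient.mk P) w = hU.primeIdealOf ⟨y, hy⟩ :=
        hU.fromSpec.isOpenEmbedding.injective (hz.trans (hU.fromSpec_primeIdealOf ⟨y, hy⟩).symm)
      refine hw.ne (PrimeSpectrum.ext ?_)
      refine Ideal.comap_injective_of_surjective _ Ideal.Quotient.mk_surjective ?_
      exact (congrArg PrimeSpectrum.asIdeal e').trans hcm.symm
  rw [← hk] at h2
  have : k ≤ 1 := by exact_mod_cast h2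
  omega

end Groth.Agent.UCat26
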