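import Groth.Agent.Lib.UCat26.Regular
import Groth.Agent.Lib.FibDim14.Comp
import Groth.Agent.Lib.Depth.CM

/-! # Relative dimension of flat morphisms through dimension functions -/

set_option autoImplicit false
universe u

set_option backward.isDefEq.respectTransparency.types false

open CategoryTheory AlgebraicGeometry Order

namespace Groth.Agent.UCat26

variable {X Y : Scheme.{u}}

theorem coheight_eq {δ : X → ℤ} (hd : Cyc.IsDimFun X δ) (η x : X) (hη : ∀ z : X, η ⤳ z) :
    Order.coheight x = ((δ η - δ x).toNat : ℕ∞) := by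
  obtain ⟨l, hl0, hl1, hl⟩ := exists_series hd (δ η - δ x).toNat η x (hη x) (Int.self_le_toNat _)
  have h0 : 0 ≤ δ η - δ x := by omega
  refine le_antisymm (Order.coheight_le fun p hp => ?_) ?_
  · have := (p.map δ fun a b h => delta_lt_of_lt hd h).head_add_length_le_int
    rw [LTSeries.head_map, LTSeries.last_map, LTSeries.map_length, hp] at this
    have h2 := delta_le_of_specializes hd (hη p.last)
    exact Nat.cast_le.2 (show p.length ≤ (δ η - δ x).toNat by omega)
  · rw [show (δ η - δ x).toNat = l.length by omega, ← hl0]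
    exact Order.length_le_coheight_head

theorem exists_generic (x : X) [IsLocallyNoetherian X] : ∃ ξ : X, ξ ⤳ x ∧ ∀ z, z ⤳ ξ → z = ξ := by
  obtain ⟨U, hU, hx, -⟩ := exists_isAffineOpen_mem_and_subset (U := (⊤ : X.Opens)) (x := x) trivial
  obtain ⟨P, hP, hle⟩ := Ideal.exists_minimalPrimes_le (J := (hU.primeIdealOf ⟨x, hx⟩).asIdeal) (bot_le : (⊥ : Ideal Γ(X, U)) ≤ _)
  let P' : PrimeSpectrum Γ(X, U) := ⟨P, hP.1.1⟩
  have hξ : hU.fromSpec P' ∈ U := VarDim.fromSpec_mem hU P'
  refine ⟨hU.fromSpec P', ?_, fun z hz => ?_⟩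
  · exact ((specializes_map_iff hU.fromSpec hU.fromSpec.isOpenEmbedding.isEmbedding P' (hU.primeIdealOf ⟨x, hx⟩)).2 hle).trans
      (specializes_of_eq (hU.fromSpec_primeIdealOf ⟨x, hx⟩))
  · have hzU : z ∈ U := hz.mem_open U.isOpen hξ
    have h1 : hU.primeIdealOf ⟨z, hzU⟩ ≤ hU.primeIdealOf ⟨_, hξ⟩ :=
      (VarDim.primeIdealOf_le_iff hU ⟨z, hzU⟩ ⟨_, hξ⟩).2 hz
    rw [VarDim.primeIdealOf_fromSpec hU P'] at h1
    have h2 : hU.primeIdealOf ⟨z, hzU⟩ = P' :=
      le_antisymm h1 (hP.2 ⟨(hU.primeIdealOf ⟨z, hzU⟩).2, bot_le⟩ h1)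
    exact (hU.fromSpec_primeIdealOf ⟨z, hzU⟩).symm.trans (congrArg hU.fromSpec h2)

variable (f : X ⟶ Y)

theorem height_eq_of_generic_fibre [Flat f] [IsLocallyNoetherian X] [IsLocallyNoetherian Y] {x : X}
    (hmax : ∀ x', x' ⤳ x → f x' = f x → x' = x) : Order.coheight x = Order.coheight (f x) := by
  obtain ⟨U, V, hU, hV, e, hx⟩ := VarDim.exists_chart f x
  letI : Algebra Γ(Y, V) Γ(X, U) := (f.appLE V U e).hom.toAlgebra
  haveI : IsNoetherianRing Γ(X, U) := IsLocallyNoetherian.component_noetherian ⟨U, hU⟩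
  haveI : IsNoetherianRing Γ(Y, V) := IsLocallyNoetherian.component_noetherian ⟨V, hV⟩
  haveI : Module.Flat Γ(Y, V) Γ(X, U) := by
    exact f.flat_appLE hV hU e
  let Q := (hU.primeIdealOf ⟨x, hx⟩).asIdeal
  let p := (hV.primeIdealOf ⟨f x, e hx⟩).asIdeal
  have hP : ∀ (z : X) (hz : z ∈ U), (hV.primeIdealOf ⟨f z, e hz⟩).asIdeal =
      (hU.primeIdealOf ⟨z, hz⟩).asIdeal.under Γ(Y, V) := fun z hz =>
    congrArg PrimeSpectrum.asIdeal (IsAffineOpen.comap_primeIdealOf_appLE V hV U hU e hz).symm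
  haveI : Q.LiesOver p := ⟨hP x hx⟩
  have hp : p.map (algebraMap Γ(Y, V) Γ(X, U)) ≤ Q := by
    rw [Ideal.map_le_iff_le_comap]; exact (hP x hx).le
  haveI hQ' : (Q.map (Ideal.Quotient.mk (p.map (algebraMap Γ(Y, V) Γ(X, U))))).IsPrime :=
    Ideal.map_isPrime_of_surjective Ideal.Quotient.mk_surjective (by rwa [Ideal.mk_ker])
  have h0 : (Q.map (Ideal.Quotient.mk (p.map (algebraMap Γ(Y, V) Γ(X, U))))).height = 0 := by
    rw [show (Q.map (Ideal.Quotient.mk (p.map (algebraMap Γ(Y, V) Γ(X, U))))).height =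
      Order.height (⟨_, hQ'⟩ : PrimeSpectrum (Γ(X, U) ⧸ p.map (algebraMap Γ(Y, V) Γ(X, U)))) from
      PrimeSpectrum.height_eq_orderHeight (⟨_, hQ'⟩ : PrimeSpectrum (Γ(X, U) ⧸ p.map (algebraMap Γ(Y, V) Γ(X, U)))),
      Order.height_eq_zero]
    intro W hW
    let Q1 : PrimeSpectrum Γ(X, U) := PrimeSpectrum.comap (Ideal.Quotient.mk _) W
    have hle : Q1.asIdeal ≤ Q := by
      refine (Ideal.comap_mono ((PrimeSpectrum.asIdeal_le_asIdeal _ _).2 hW)).trans ?_
      rw [Ideal.comap_map_of_surjective _ Ideal.Quotient.mk_surjective, ← RingHom.ker_eq_comap_bot, Ideal.mk_ker]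
      exact sup_le le_rfl hp
    have hge : p.map (algebraMap Γ(Y, V) Γ(X, U)) ≤ Q1.asIdeal := (Ideal.mk_ker).ge.trans (Ideal.ker_le_comap _)
    have hz : hU.fromSpec Q1 ∈ U := VarDim.fromSpec_mem hU Q1
    have hQ1 : hU.primeIdealOf ⟨_, hz⟩ = Q1 := VarDim.primeIdealOf_fromSpec hU Q1
    have hsp : hU.fromSpec Q1 ⤳ x := (VarDim.primeIdealOf_le_iff hU ⟨_, hz⟩ ⟨x, hx⟩).1 (by rw [hQ1]; exact hle)
    have heq : hV.primeIdealOf ⟨f (hU.fromSpec Q1), e hz⟩ = hV.primeIdealOf ⟨f x, e hx⟩ := by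
      refine PrimeSpectrum.ext (le_antisymm ?_ ?_)
      · rw [hP _ hz, hP x hx, hQ1]; exact Ideal.comap_mono hle
      · rw [hP _ hz, hQ1]; exact Ideal.map_le_iff_le_comap.1 hge
    have hfx : f (hU.fromSpec Q1) = f x :=
      (hV.fromSpec_primeIdealOf ⟨f (hU.fromSpec Q1), e hz⟩).symm.trans
        ((congrArg hV.fromSpec heq).trans (hV.fromSpec_primeIdealOf ⟨f x, e hx⟩))
    have hQ1x : Q1 = hU.primeIdealOf ⟨x, hx⟩ := by
      rw [← hQ1]
      exact congrArg hU.primeIdealOf (Subtype.ext (hmax _ hsp hfx))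
    refine le_of_eq (PrimeSpectrum.ext ?_)
    refine Eq.symm ?_
    show W.asIdeal = _
    rw [← Ideal.map_comap_of_surjective _ Ideal.Quotient.mk_surjective W.asIdeal]
    exact congrArg _ (congrArg PrimeSpectrum.asIdeal hQ1x)
  have key := Ideal.height_eq_height_add_of_liesOver_of_hasGoingDown p Q
  rw [h0, add_zero] at key
  have e1 : Order.coheight x = Q.height :=
    WithBot.coe_eq_coe.1 ((AlgebraicGeometry.ringKrullDim_stalk_eq_coheight x).symm.trans
      (DimFormula14.stalkDim_eq_height hU hx))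
  have e2 : Order.coheight (f x) = p.height :=
    WithBot.coe_eq_coe.1 ((AlgebraicGeometry.ringKrullDim_stalk_eq_coheight (f x)).symm.trans
      (DimFormula14.stalkDim_eq_height hV (e hx)))
  rw [e1, e2, key]

theorem eq_of_maximal_preimage_closure [Flat f] {y : Y} {x : X} (hx : f x ∈ closure ({y} : Set Y))
    (hmax : ∀ x' : X, f x' ∈ closure ({y} : Set Y) → x' ⤳ x → x' = x) : f x = y := by
  obtain ⟨x', hx', hfx'⟩ := Flat.generalizingMap f (specializes_iff_mem_closure.2 hx)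
  have := hmax x' (by rw [hfx']; exact subset_closure rfl) hx'
  rw [← this, hfx']

theorem rd_eq_of_hasRelDim [LocallyOfFiniteType f] {r : ℕ} (hr : Cyc.HasRelDim f r) {x : X}
    (hmax : ∀ x', x' ⤳ x → f x' = f x → x' = x) : FibDim14.rd f x = r := by
  have hz : ∀ z, z ⤳ f.asFiber x → z = f.asFiber x := fun z hz => by
    obtain ⟨h1, h2⟩ := FibDim14.fiberι_mem f hz
    exact (f.fiberι (f x)).isEmbedding.injective ((hmax _ h1 h2).trans (f.fiberι_asFiber x).symm)
  have hT : closure ({f.asFiber x} : Set (f.fiber (f x))) ∈ irreducibleComponents (f.fiber (f x)) := by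
    refine ⟨isIrreducible_singleton.closure, fun W hW hle => ?_⟩
    refine subset_closure.trans ?_
    rw [← hW.closure.closure_genericPoint isClosed_closure]
    have hg : hW.closure.genericPoint ⤳ f.asFiber x := by
      rw [specializes_iff_mem_closure, hW.closure.closure_genericPoint isClosed_closure]
      exact subset_closure (hle (subset_closure rfl))
    rw [hz _ hg]
  have h1 := hr (f x) _ hT
  rw [VarDim.dim_closure_singleton (FibDim14.toPt f (f x))] at h1
  have h3 := FibDim14.rd_fiberι f (f x) (f.asFiber x)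
  rw [f.fiberι_asFiber] at h3
  rw [h3]
  exact_mod_cast h1

theorem delta_eq_add_rd {δX : X → ℤ} {δY : Y → ℤ} [LocallyOfFiniteType f] (hδ : Cyc.DeltaCompat f δX δY) (z : X) :
    δX z = δY (f z) + FibDim14.rd f z := by
  obtain ⟨n, hn, hz⟩ := hδ z
  have hrz : Cardinal.toNat (FibDim14.rdeg f z) = n := (congrArg Cardinal.toNat hn).trans (Cardinal.toNat_natCast n)
  rw [hz, FibDim14.rd, hrz]

theorem rd_generic_fibre_of_irreducible [Flat f] [LocallyOfFiniteType f] [IsLocallyNoetherian Y]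
    [IrreducibleSpace X] [IrreducibleSpace Y]
    {δX : X → ℤ} {δY : Y → ℤ} (hdX : Cyc.IsDimFun X δX) (hdY : Cyc.IsDimFun Y δY) (hδ : Cyc.DeltaCompat f δX δY)
    {x : X} (hmax : ∀ x', x' ⤳ x → f x' = f x → x' = x) :
    (FibDim14.rd f x : ℤ) = δX (genericPoint X) - δY (genericPoint Y) := by
  haveI : IsLocallyNoetherian X := LocallyOfFiniteType.isLocallyNoetherian f
  have h := height_eq_of_generic_fibre f hmax
  rw [coheight_eq hdX (genericPoint X) x genericPoint_specializes,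
    coheight_eq hdY (genericPoint Y) (f x) genericPoint_specializes] at h
  have h' : (δX (genericPoint X) - δX x).toNat = (δY (genericPoint Y) - δY (f x)).toNat := by exact_mod_cast h
  have := delta_le_of_specializes hdX (genericPoint_specializes x)
  have := delta_le_of_specializes hdY (genericPoint_specializes (f x))
  have := delta_eq_add_rd f hδ x
  omega

theorem hasRelDim_of_irreducible [Flat f] [LocallyOfFiniteType f] [IrreducibleSpace X] [IrreducibleSpace Y]
    {δX : X → ℤ} {δY : Y → ℤ} (hY : Cyc.IsSetup Y δY) (hδ : Cyc.DeltaCompat f δX δY) :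
    0 ≤ δX (genericPoint X) - δY (genericPoint Y) ∧
      Cyc.HasRelDim f (δX (genericPoint X) - δY (genericPoint Y)).toNat ∧
      ∀ x : X, topologicalKrullDim ↥(f.fiber (f x)) =
        ((δX (genericPoint X) - δY (genericPoint Y)).toNat : WithBot ℕ∞) := by
  haveI := hY.1
  haveI : IsLocallyNoetherian X := LocallyOfFiniteType.isLocallyNoetherian f
  have hdX := isDimFun_of_deltaCompat f hY.2.1 hY.2.2 hδ
  have key : ∀ (y : Y) (z : f.fiber y), (∀ w, w ⤳ z → w = z) →
      (VarDim.sdim (FibDim14.toPt f y) z : ℤ) = δX (genericPoint X) - δY (genericPoint Y) := fun y z hz => by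
    rw [← FibDim14.rd_fiberι]
    refine rd_generic_fibre_of_irreducible f hdX hY.2.2 hδ fun x' h1 h2 => ?_
    have h3 : x' ∈ Set.range (f.fiberι y) := by
      rw [Scheme.Hom.range_fiberι, Set.mem_preimage, Set.mem_singleton_iff, h2]
      have h4 : f.fiberι y z ∈ f ⁻¹' {y} := by rw [← Scheme.Hom.range_fiberι]; exact ⟨z, rfl⟩
      exact h4
    obtain ⟨w, rfl⟩ := h3
    rw [hz w ((f.fiberι y).isEmbedding.isInducing.specializes_iff.1 h1)]
  have hlfin : ∀ y, IsLocallyNoetherian (f.fiber y) := fun y =>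
    LocallyOfFiniteType.isLocallyNoetherian (FibDim14.toPt f y)
  have hpos : 0 ≤ δX (genericPoint X) - δY (genericPoint Y) := by
    haveI := hlfin (f (genericPoint X))
    obtain ⟨z, -, hz⟩ := exists_generic (f.asFiber (genericPoint X))
    rw [← key _ z hz]; exact Int.natCast_nonneg _
  refine ⟨hpos, fun y T hT => ?_, fun x => ?_⟩
  · have hTc := isClosed_of_mem_irreducibleComponents T hT
    have hTi : IsIrreducible T := hT.1
    rw [VarDim.dim_irreducible_isClosed (FibDim14.toPt f y) hTc hTi]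
    have := key y hTi.genericPoint fun w hw => by
      have hsub : T ⊆ closure {w} := by
        rw [← hTi.closure_genericPoint hTc]
        exact hw.closure_subset
      have hw' : w ∈ T := hT.2 (isIrreducible_singleton.closure) hsub (subset_closure rfl)
      have hgw : hTi.genericPoint ⤳ w := by rw [specializes_iff_mem_closure, hTi.closure_genericPoint hTc]; exact hw'
      exact (hw.antisymm hgw).eq
    rw [show (δX (genericPoint X) - δY (genericPoint Y)).toNat = VarDim.sdim (FibDim14.toPt f y) hTi.genericPoint by omega]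
  · haveI := hlfin (f x)
    rw [VarDim.dim_eq_iSup_sdim (FibDim14.toPt f (f x))]
    refine le_antisymm (iSup_le fun w => ?_) ?_
    · obtain ⟨z, hzw, hz⟩ := exists_generic w
      have h1 := key _ z hz
      have h2 : VarDim.sdim (FibDim14.toPt f (f x)) w ≤ VarDim.sdim (FibDim14.toPt f (f x)) z := by
        rcases eq_or_ne z w with rfl | hne
        · rfl
        · exact (VarDim.sdim_lt_of_specializes _ hzw hne).le
      exact Nat.cast_le.2 (by omega)
    · obtain ⟨z, -, hz⟩ := exists_generic (f.asFiber x)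
      have h1 := key _ z hz
      refine le_iSup_of_le z (Nat.cast_le.2 ?_)
      omega

/-- A Cohen–Macaulay point has a neighbourhood on which all generic points have the same `δ`. -/
theorem exists_nhd_equidim {δ : X → ℤ} [IsLocallyNoetherian X] (hd : Cyc.IsDimFun X δ) (x : X)
    (hcm : LocCoh.IsCohenMacaulayLocalRing (X.presheaf.stalk x)) :
    ∃ (U : X.Opens) (n : ℤ), x ∈ U ∧ ∀ ξ : X, ξ ∈ U → (∀ ξ' : X, ξ' ⤳ ξ → ξ' = ξ) → δ ξ = n := by
  have hdim : ∀ ξ (h : ξ ⤳ x), (∀ ξ' : X, ξ' ⤳ ξ → ξ' = ξ) →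
      ringKrullDim (X.presheaf.stalk x) = ((δ ξ - δ x).toNat : WithBot ℕ∞) := fun ξ h hξ => by
    rw [← ringKrullDim_locQuot hd ξ x h]
    haveI := hcm
    haveI hp : (RingHom.ker (Cyc.specMap x ξ h)).IsPrime := RingHom.ker_isPrime _
    have hmin : RingHom.ker (Cyc.specMap x ξ h) ∈ minimalPrimes (X.presheaf.stalk x) := by
      refine ⟨⟨hp, bot_le⟩, fun Q hQ hQp => ?_⟩
      let Q' : PrimeSpectrum (X.presheaf.stalk x) := ⟨Q, hQ.1⟩
      let K : PrimeSpectrum (X.presheaf.stalk x) := ⟨_, hp⟩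
      have hK : X.fromSpecStalk x K = ξ := fromSpecStalk_ker h
      have h1 := hξ (X.fromSpecStalk x Q')
        (((specializes_map_iff _ (X.fromSpecStalk x).isEmbedding Q' K).2 hQp).trans (specializes_of_eq hK))
      have h2 : Q' = K := (X.fromSpecStalk x).isEmbedding.injective (h1.trans hK.symm)
      exact (congrArg PrimeSpectrum.asIdeal h2).ge
    have hass : RingHom.ker (Cyc.specMap x ξ h) ∈ associatedPrimes (X.presheaf.stalk x) (X.presheaf.stalk x) := by
      refine Module.associatedPrimes.minimalPrimes_annihilator_subset_associatedPrimes _ _ ?_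
      rw [Module.annihilator_eq_bot.2 inferInstance]
      exact hmin
    have := DepthLib.ringKrullDim_quotient_eq_of_mem_associatedPrimes
      LocCoh.IsCohenMacaulayLocalRing.supportDim_eq_depth hass
    rw [Module.supportDim_self_eq_ringKrullDim] at this
    exact this.symm
  obtain ⟨U, hU, hx, -⟩ := exists_isAffineOpen_mem_and_subset (U := (⊤ : X.Opens)) (x := x) trivial
  haveI : IsNoetherianRing Γ(X, U) := IsLocallyNoetherian.component_noetherian ⟨U, hU⟩
  let M : Set X := {ξ | ξ ∈ U ∧ (∀ ξ' : X, ξ' ⤳ ξ → ξ' = ξ) ∧ ¬ ξ ⤳ x}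
  have hfin : M.Finite := by
    refine ((minimalPrimes.finite_of_isNoetherianRing Γ(X, U)).preimage
      (f := fun p : PrimeSpectrum Γ(X, U) => p.asIdeal) (fun a _ b _ => PrimeSpectrum.ext)).image hU.fromSpec |>.subset ?_
    rintro ξ ⟨hξU, hξ, -⟩
    refine ⟨hU.primeIdealOf ⟨ξ, hξU⟩, ⟨⟨(hU.primeIdealOf ⟨ξ, hξU⟩).2, bot_le⟩, fun Q hQ hQle => ?_⟩,
      hU.fromSpec_primeIdealOf ⟨ξ, hξU⟩⟩
    let Q' : PrimeSpectrum Γ(X, U) := ⟨Q, hQ.1⟩
    have h1 := hξ (hU.fromSpec Q') (((specializes_map_iff _ hU.fromSpec.isOpenEmbedding.isEmbedding Q'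
      (hU.primeIdealOf ⟨ξ, hξU⟩)).2 hQle).trans (specializes_of_eq (hU.fromSpec_primeIdealOf ⟨ξ, hξU⟩)))
    have h2 : Q' = hU.primeIdealOf ⟨ξ, hξU⟩ :=
      hU.fromSpec.isOpenEmbedding.injective (h1.trans (hU.fromSpec_primeIdealOf ⟨ξ, hξU⟩).symm)
    exact (congrArg PrimeSpectrum.asIdeal h2).ge
  obtain ⟨ξ0, h0, hξ0⟩ := exists_generic x
  refine ⟨U ⊓ ⟨(⋃ ξ ∈ M, closure ({ξ} : Set X))ᶜ, (hfin.isClosed_biUnion fun _ _ => isClosed_closure).isOpen_compl⟩,
    δ ξ0, ⟨hx, ?_⟩, ?_⟩
  · simp only [Set.mem_compl_iff, Set.mem_iUnion, not_exists, SetLike.mem_coe, TopologicalSpace.Opens.coe_mk]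
    intro ξ hξ hmem
    exact hξ.2.2 (specializes_iff_mem_closure.2 hmem)
  · rintro ξ ⟨hξU, hξM⟩ hξ
    have hsp : ξ ⤳ x := by
      by_contra hns
      exact hξM (Set.mem_biUnion (show ξ ∈ M from ⟨hξU, hξ, hns⟩) (subset_closure rfl))
    have e1 := (hdim ξ hsp hξ).symm.trans (hdim ξ0 h0 hξ0)
    have e1' : (δ ξ - δ x).toNat = (δ ξ0 - δ x).toNat := by exact_mod_cast e1
    have := delta_le_of_specializes hd hsp
    have := delta_le_of_specializes hd h0
    omega

end Groth.Agent.UCat26
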