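import Groth.Agent.Lib.UCat26.DimEq

/-! # The dimension formula from catenarity of finitely generated subalgebras of `S[X]` -/

set_option autoImplicit false
universe u

open Polynomial Ideal

namespace Groth.Agent.UCat26.Below

open DimFormula14

/-- Saturated chains from a common start to `Q` have a common length. -/
def Eqlen {T : Type u} [CommRing T] (Q : PrimeSpectrum T) : Prop :=
  ∀ s t : LTSeries (PrimeSpectrum T), s.last = Q → s.head = t.head → s.last = t.last →
    (∀ i : Fin s.length, s (Fin.castSucc i) ⋖ s (Fin.succ i)) →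
    (∀ i : Fin t.length, t (Fin.castSucc i) ⋖ t (Fin.succ i)) → s.length = t.length

theorem eqlen_of_atPrime {T A : Type u} [CommRing T] [CommRing A] (e : T ≃+* A) (m : Ideal A) [m.IsPrime]
    (hcat : CAlg.IsCatenary (Localization.AtPrime m)) (Q : PrimeSpectrum T) (hQ : Q.asIdeal ≤ m.comap e) :
    Eqlen Q := by
  let f : PrimeSpectrum T ≃o PrimeSpectrum A := PrimeSpectrum.comapEquiv e
  let g := IsLocalization.AtPrime.primeSpectrumOrderIso (Localization.AtPrime m) m
  intro s t hs hhead hlast hcs hct
  have key : ∀ u : LTSeries (PrimeSpectrum T), u.last = Q → ∀ i, f (u i) ≤ ⟨m, inferInstance⟩ := by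
    intro u hu i x hx
    have h1 : e.symm x ∈ (u i).asIdeal := hx
    have h2 := hQ ((hu ▸ u.monotone (Fin.le_last i) : u i ≤ Q) h1)
    rw [Ideal.mem_comap, e.apply_symm_apply] at h2
    exact h2
  let lift : ∀ u : LTSeries (PrimeSpectrum T), u.last = Q → LTSeries (PrimeSpectrum (Localization.AtPrime m)) :=
    fun u hu =>
      { length := u.length
        toFun := fun i => g.symm ⟨f (u i), key u hu i⟩
        step := fun i => g.symm.strictMono (f.strictMono (u.step i)) }
  have hcov : ∀ (u : LTSeries (PrimeSpectrum T)) (hu : u.last = Q),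
      (∀ i : Fin u.length, u (Fin.castSucc i) ⋖ u (Fin.succ i)) →
      ∀ i : Fin (lift u hu).length, lift u hu (Fin.castSucc i) ⋖ lift u hu (Fin.succ i) := by
    intro u hu hc i
    have h1 : f (u (Fin.castSucc i)) ⋖ f (u (Fin.succ i)) := (apply_covBy_apply_iff f).2 (hc i)
    exact (apply_covBy_apply_iff g.symm).2 ⟨h1.1, fun c hc1 hc2 => h1.2 hc1 hc2⟩
  refine hcat.2 (lift s hs) (lift t (hlast ▸ hs)) ?_ ?_ (hcov s hs hcs) (hcov t (hlast ▸ hs) hct)
  · exact congrArg g.symm (Subtype.ext (congrArg f hhead))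
  · exact congrArg g.symm (Subtype.ext (congrArg f hlast))

/-- Catenarity of the local rings over `p` of finitely generated subalgebras of `S[X]`. -/
def CatOver (R S : Type u) [CommRing R] [CommRing S] [Algebra R S] (p : Ideal R) : Prop :=
  ∀ A' : Subalgebra R (Polynomial S), A'.FG → ∀ (m' : Ideal A') [m'.IsMaximal],
    p ≤ m'.comap (algebraMap R A') → CAlg.IsCatenary (Localization.AtPrime m')

theorem CatOver.step {R S : Type u} [CommRing R] [CommRing S] [Algebra R S] {p : Ideal R} (h : CatOver R S p)
    {R1 : Subalgebra R S} [Algebra.FiniteType R R1] (p1 : Ideal R1) (hp : p ≤ p1.comap (algebraMap R R1)) :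
    CatOver R1 S p1 := by
  intro A' hA' m' _ hm
  haveI : Algebra.FiniteType R1 A' := (Subalgebra.fg_iff_finiteType A').1 hA'
  haveI : Algebra.FiniteType R A' := Algebra.FiniteType.trans (R := R) (S := R1) (A := A') inferInstance inferInstance
  have hfg : (A'.restrictScalars R).FG := (Subalgebra.fg_iff_finiteType _).2 (inferInstanceAs (Algebra.FiniteType R A'))
  exact @h (A'.restrictScalars R) hfg m' ‹_› (hp.trans (Ideal.comap_mono hm))

theorem CatOver.sub {R S : Type u} [CommRing R] [CommRing S] [Algebra R S] {p : Ideal R} (h : CatOver R S p)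
    (R1 : Subalgebra R S) : CatOver R R1 p := by
  intro A' hA' m' _ hm
  let ψ : (Polynomial R1) →ₐ[R] Polynomial S := Polynomial.mapAlgHom R1.val
  have hψ : Function.Injective ψ := Polynomial.map_injective _ Subtype.val_injective
  let e : A' ≃ₐ[R] A'.map ψ := A'.equivMapOfInjective ψ hψ
  let m'' : Ideal (A'.map ψ) := m'.comap e.symm.toRingEquiv.toRingHom
  haveI : m''.IsMaximal := Ideal.comap_isMaximal_of_surjective _ e.symm.surjective
  have h2 := h (A'.map ψ) (hA'.map ψ) m'' (fun r hr => by
    show e.symm (algebraMap R _ r) ∈ m'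
    rw [AlgEquiv.commutes]; exact hm hr)
  let el : Localization.AtPrime m' ≃+* Localization.AtPrime m'' :=
    IsLocalization.ringEquivOfRingEquiv (M := m'.primeCompl) (T := m''.primeCompl) (Localization.AtPrime m') (Localization.AtPrime m'') e.toRingEquiv (by
      ext z
      simp only [Submonoid.mem_map]
      constructor
      · rintro ⟨w, hw, rfl⟩
        show e.symm (e w) ∉ m'
        rw [AlgEquiv.symm_apply_apply]; exact hw
      · intro hz
        exact ⟨e.symm z, hz, e.apply_symm_apply z⟩)
  let F : PrimeSpectrum (Localization.AtPrime m') ≃o PrimeSpectrum (Localization.AtPrime m'') :=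
    PrimeSpectrum.comapEquiv el
  refine ⟨fun a b hab => ?_, fun s t hh hl hcs hct => ?_⟩
  · obtain ⟨n, hn⟩ := h2.1 (F a) (F b) (F.monotone hab)
    exact ⟨n, fun s hs ht => hn (s.map F F.strictMono) (congrArg F hs) (congrArg F ht)⟩
  · exact h2.2 (s.map F F.strictMono) (t.map F F.strictMono) (congrArg F hh) (congrArg F hl)
      (fun i => (apply_covBy_apply_iff F).2 (hcs i)) (fun i => (apply_covBy_apply_iff F).2 (hct i))

theorem eqlen_of_catOver {R S : Type u} [CommRing R] [CommRing S] [Algebra R S] [FaithfulSMul R S] {p : Ideal R}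
    (h : CatOver R S p) (Q : PrimeSpectrum R[X]) (hQ : p ≤ Q.asIdeal.comap (algebraMap R R[X])) : Eqlen Q := by
  let ψ : R[X] →ₐ[R] Polynomial S := Polynomial.mapAlgHom (Algebra.ofId R S)
  have hψ : Function.Injective ψ := Polynomial.map_injective _ (FaithfulSMul.algebraMap_injective R S)
  let e : R[X] ≃ₐ[R] ψ.range := AlgEquiv.ofInjective ψ hψ
  have hfg : ψ.range.FG := by
    haveI : Algebra.FiniteType R ψ.range := Algebra.FiniteType.of_surjective (e : R[X] →ₐ[R] ψ.range) e.surjective
    exact (Subalgebra.fg_iff_finiteType _).2 inferInstance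
  obtain ⟨M, hM, hle⟩ := Ideal.exists_le_maximal Q.asIdeal Q.isPrime.ne_top
  let m' : Ideal ψ.range := M.comap e.symm.toRingEquiv.toRingHom
  haveI : m'.IsMaximal := Ideal.comap_isMaximal_of_surjective _ e.symm.surjective
  refine eqlen_of_atPrime e.toRingEquiv m' (h ψ.range hfg m' fun r hr => ?_) Q fun x hx => ?_
  · show e.symm (algebraMap R _ r) ∈ M
    rw [AlgEquiv.commutes]; exact hle (hQ hr)
  · show e.symm (e x) ∈ M
    rw [AlgEquiv.symm_apply_apply]; exact hle hx

/-- In a Noetherian domain catenary below the point, dividing by a height one prime drops heights by one. -/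
theorem height_comap_eq_add_one {T S : Type u} [CommRing T] [IsDomain T] [IsNoetherianRing T] [CommRing S]
    [IsDomain S] (φ : T →+* S) (hφ : Function.Surjective φ)
    (hker : (RingHom.ker φ).height = 1) (q : Ideal S) [q.IsPrime] (hT : Eqlen (PrimeSpectrum.comap φ ⟨q, inferInstance⟩)) :
    (q.comap φ).height = q.height + 1 := by
  haveI : IsNoetherianRing S := isNoetherianRing_of_surjective T S φ hφ
  haveI : (RingHom.ker φ).IsPrime := RingHom.ker_isPrime φ
  have hbot : RingHom.ker φ ≠ ⊥ := fun h => by simp [h] at hker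
  let Q : PrimeSpectrum T := PrimeSpectrum.comap φ ⟨q, inferInstance⟩
  have hQ : Order.height Q = (q.comap φ).height := (PrimeSpectrum.height_eq_orderHeight Q).symm
  have hq : Order.height (⟨q, inferInstance⟩ : PrimeSpectrum S) = q.height :=
    (PrimeSpectrum.height_eq_orderHeight (⟨q, inferInstance⟩ : PrimeSpectrum S)).symm
  have hQfin : Order.height Q ≠ ⊤ := by rw [hQ]; exact Ideal.height_ne_top_of_isPrime
  have hqfin : Order.height (⟨q, inferInstance⟩ : PrimeSpectrum S) ≠ ⊤ := by
    rw [hq]; exact Ideal.height_ne_top_of_isPrime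
  obtain ⟨s, hs, hslen⟩ := Order.exists_series_of_height_eq_coe (⟨q, inferInstance⟩ : PrimeSpectrum S)
    (ENat.natCast_toNat hqfin).symm
  have hsl : (s.length : ℕ∞) = Order.height s.last := by rw [hs, hslen, ENat.natCast_toNat hqfin]
  have hshead : s.head = ⊥ := by
    have := Order.height_eq_index_of_length_eq_height_last hsl 0
    exact (Order.height_eq_zero.1 this).eq_bot
  let s' := s.map (PrimeSpectrum.comap φ) (RingHom.strictMono_comap_of_surjective hφ)
  have hlt : (⊥ : PrimeSpectrum T) < s'.head := by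
    rw [LTSeries.head_map, hshead, ← PrimeSpectrum.asIdeal_lt_asIdeal]
    exact bot_lt_iff_ne_bot.2 (by
      show Ideal.comap φ ⊥ ≠ ⊥
      rw [← RingHom.ker_eq_comap_bot]; exact hbot)
  obtain ⟨t, ht, htlen⟩ := Order.exists_series_of_height_eq_coe Q (ENat.natCast_toNat hQfin).symm
  have htl : (t.length : ℕ∞) = Order.height t.last := by rw [ht, htlen, ENat.natCast_toNat hQfin]
  have hthead : t.head = ⊥ := by
    have := Order.height_eq_index_of_length_eq_height_last htl 0
    exact (Order.height_eq_zero.1 this).eq_bot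
  let a : LTSeries (PrimeSpectrum T) :=
    { length := s'.length + 1
      toFun := Fin.cons (α := fun _ => PrimeSpectrum T) ⊥ s'.toFun
      step := fun i => by
        induction i using Fin.cases with
        | zero =>
          show (⊥ : PrimeSpectrum T) < Fin.cons (α := fun _ => PrimeSpectrum T) (⊥ : PrimeSpectrum T) s'.toFun (Fin.succ 0)
          rw [Fin.cons_succ]; exact hlt
        | succ j =>
          show (Fin.cons (α := fun _ => PrimeSpectrum T) (⊥ : PrimeSpectrum T) s'.toFun (Fin.succ j.castSucc) : PrimeSpectrum T) <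
            Fin.cons (α := fun _ => PrimeSpectrum T) (⊥ : PrimeSpectrum T) s'.toFun (Fin.succ j.succ)
          rw [Fin.cons_succ, Fin.cons_succ]; exact s'.step j }
  have hs' : s'.last = Q := by rw [LTSeries.last_map, hs]
  have hcov : ∀ i : Fin a.length, a i.castSucc ⋖ a i.succ := by
    intro i
    induction i using Fin.cases with
    | zero =>
      show (⊥ : PrimeSpectrum T) ⋖ Fin.cons (α := fun _ => PrimeSpectrum T) (⊥ : PrimeSpectrum T) s'.toFun (Fin.succ 0)
      rw [Fin.cons_succ]
      show (⊥ : PrimeSpectrum T) ⋖ s'.head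
      refine ⟨hlt, fun c hc1 hc2 => ?_⟩
      rw [LTSeries.head_map, hshead] at hc2
      have h1 : Order.height (PrimeSpectrum.comap φ ⊥) = 1 := by
        rw [← PrimeSpectrum.height_eq_orderHeight]
        show (Ideal.comap φ ⊥).height = 1
        rw [← RingHom.ker_eq_comap_bot]; exact hker
      have h2 := Order.height_strictMono hc2 (lt_of_le_of_lt (Order.height_mono hc2.le) (by rw [h1]; exact ENat.one_lt_top))
      have h3 := Order.height_strictMono hc1 (by rw [Order.height_bot]; exact (ENat.coe_lt_top 0))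
      rw [h1, ENat.lt_one_iff_eq_zero] at h2
      rw [h2, Order.height_bot] at h3
      exact lt_irrefl _ h3
    | succ j =>
      show (Fin.cons (α := fun _ => PrimeSpectrum T) (⊥ : PrimeSpectrum T) s'.toFun (Fin.succ j.castSucc) : PrimeSpectrum T) ⋖
        Fin.cons (α := fun _ => PrimeSpectrum T) (⊥ : PrimeSpectrum T) s'.toFun (Fin.succ j.succ)
      rw [Fin.cons_succ, Fin.cons_succ]
      have hc := covBy_of_length_eq s (by rw [hs]; exact hqfin) hsl j
      refine ⟨s'.step j, fun c hc1 hc2 => ?_⟩
      have hle : RingHom.ker φ ≤ c.asIdeal :=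
        (Ideal.ker_le_comap φ).trans (PrimeSpectrum.asIdeal_le_asIdeal _ _ |>.2 hc1.le)
      have hp : (c.asIdeal.map φ).IsPrime := Ideal.map_isPrime_of_surjective hφ hle
      have hce : PrimeSpectrum.comap φ ⟨c.asIdeal.map φ, hp⟩ = c := by
        ext1
        show (c.asIdeal.map φ).comap φ = c.asIdeal
        rw [Ideal.comap_map_of_surjective φ hφ, ← RingHom.ker_eq_comap_bot]
        exact sup_eq_left.2 hle
      have hiff : ∀ x y : PrimeSpectrum S, PrimeSpectrum.comap φ x < PrimeSpectrum.comap φ y → x < y := fun x y h => by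
        rw [← PrimeSpectrum.asIdeal_lt_asIdeal] at h ⊢
        exact lt_of_le_not_ge ((Ideal.comap_le_comap_iff_of_surjective φ hφ _ _).1 h.le)
          fun hh => h.not_ge (Ideal.comap_mono hh)
      rw [← hce] at hc1 hc2
      exact hc.2 (hiff _ _ hc1) (hiff _ _ hc2)
  have hlast : a.last = s'.last := by
    show (Fin.cons (α := fun _ => PrimeSpectrum T) (⊥ : PrimeSpectrum T) s'.toFun (Fin.last (s'.length + 1)) : PrimeSpectrum T) = _
    rw [← Fin.succ_last, Fin.cons_succ]; rfl
  have hlen := hT a t (hlast.trans hs') (show a.head = t.head from hthead.symm)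
    ((hlast.trans hs').trans ht.symm) hcov (covBy_of_length_eq t (by rw [ht]; exact hQfin) htl)
  change s.length + 1 = t.length at hlen
  rw [← hQ, ← hq, ← ENat.natCast_toNat hQfin, ← ENat.natCast_toNat hqfin, ← htlen, ← hslen, ← hlen]
  push_cast
  rfl

theorem eq_singleton {R : Type u} [CommRing R] [IsDomain R] [IsNoetherianRing R]
    {S : Type u} [CommRing S] [IsDomain S] [Algebra R S] [FaithfulSMul R S] {x : S}
    (hx : Algebra.adjoin R {x} = ⊤) (p : Ideal R) [p.IsPrime] (hR : ∀ Q : PrimeSpectrum R[X],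
      p ≤ Q.asIdeal.comap (algebraMap R R[X]) → Eqlen Q) (q : Ideal S) [q.IsPrime] [q.LiesOver p] :
    q.height + tr (R ⧸ p) (S ⧸ q) = p.height + tr R S := by
  haveI : Algebra.FiniteType R S := ⟨⟨{x}, by rw [Finset.coe_singleton]; exact hx⟩⟩
  haveI : IsNoetherianRing S := Algebra.FiniteType.isNoetherianRing R S
  refine le_antisymm (height_add_tr_le R S p q) ?_
  let φ : R[X] →ₐ[R] S := Polynomial.aeval x
  have hφ : Function.Surjective φ.toRingHom := fun s => by
    have : s ∈ (Polynomial.aeval (R := R) x).range := by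
      rw [← Algebra.adjoin_singleton_eq_range_aeval, hx]; exact Algebra.mem_top
    exact this
  let Q := q.comap φ.toRingHom
  haveI : Q.LiesOver p := ⟨by
    rw [Ideal.under, Ideal.comap_comap, Ideal.LiesOver.over (P := q) (p := p), Ideal.under]
    congr 1
    exact φ.comp_algebraMap.symm⟩
  let y : S ⧸ q := Ideal.Quotient.mk q x
  have key : p.height + 1 ≤ Q.height + tr (R ⧸ p) (S ⧸ q) := by
    by_cases h : Q = p.map (algebraMap R R[X])
    · refine add_le_add (height_map_C_ge p Q) (one_le_tr (y := y) ?_)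
      rintro ⟨g, hg0, hg⟩
      obtain ⟨f, rfl⟩ := Polynomial.map_surjective _ Ideal.Quotient.mk_surjective g
      have hf : f ∈ Q := by
        show φ f ∈ q
        rw [Polynomial.aeval_def, Polynomial.eval₂_map] at hg
        rw [← Ideal.Quotient.eq_zero_iff_mem, ← hg,
          show φ f = Polynomial.eval₂ (algebraMap R S) x f from rfl, Polynomial.hom_eval₂]
        rfl
      rw [h, Polynomial.algebraMap_eq, Ideal.mem_map_C_iff] at hf
      exact hg0 (Polynomial.ext fun n => by
        rw [Polynomial.coeff_map, Polynomial.coeff_zero]; exact Ideal.Quotient.eq_zero_iff_mem.2 (hf n))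
    · have hle : p.map (algebraMap R R[X]) ≤ Q := by
        rw [Ideal.map_le_iff_le_comap]
        exact (Ideal.LiesOver.over (P := Q) (p := p)).le
      haveI hp : (p.map (algebraMap R R[X])).IsPrime := by
        rw [Polynomial.algebraMap_eq]; exact Ideal.isPrime_map_C_of_isPrime
      haveI : (p.map (algebraMap R R[X])).LiesOver p := ⟨le_antisymm Ideal.le_comap_map
        ((Ideal.comap_mono hle).trans (Ideal.LiesOver.over (P := Q) (p := p)).ge)⟩
      refine le_trans ?_ le_self_add
      refine le_trans (add_le_add (height_map_C_ge p (p.map (algebraMap R R[X]))) le_rfl) ?_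
      exact ENat.add_one_le_iff Ideal.height_ne_top_of_isPrime |>.2
        (Ideal.height_strict_mono_of_isPrime (lt_of_le_of_ne hle (Ne.symm h)))
  by_cases hinj : Function.Injective φ.toRingHom
  · have hb : Function.Bijective φ.toRingHom := ⟨hinj, hφ⟩
    have hQq : Q.height = q.height := (RingEquiv.ofBijective φ.toRingHom hb).height_comap q
    rw [← hQq]
    exact le_trans (add_le_add le_rfl (tr_le_one_of_adjoin_singleton hx)) key
  · have hne : RingHom.ker φ.toRingHom ≠ ⊥ := fun h => hinj ((RingHom.injective_iff_ker_eq_bot _).2 h)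
    haveI : (RingHom.ker φ.toRingHom).IsPrime := RingHom.ker_isPrime _
    haveI : (RingHom.ker φ.toRingHom).LiesOver (⊥ : Ideal R) := ⟨(eq_bot_iff.2 fun r hr => by
      have : φ (algebraMap R R[X] r) = 0 := hr
      rw [AlgHom.commutes] at this
      exact FaithfulSMul.algebraMap_injective R S (this.trans (map_zero _).symm)).symm⟩
    have h1 : (RingHom.ker φ.toRingHom).height = 1 := by
      refine le_antisymm (height_le_one_of_disjoint _) ?_
      have := Ideal.height_strict_mono_of_isPrime (bot_lt_iff_ne_bot.2 hne : ⊥ < RingHom.ker φ.toRingHom)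
      rw [Ideal.height_bot] at this
      exact ENat.one_le_iff_ne_zero.2 this.ne'
    have ha : IsAlgebraic R x := by
      obtain ⟨f, hf, hf0⟩ := Submodule.exists_mem_ne_zero_of_ne_bot hne
      exact ⟨f, hf0, hf⟩
    rw [tr_eq_zero_of_adjoin_singleton hx ha, add_zero]
    have hQq : Q.height = q.height + 1 := height_comap_eq_add_one _ hφ h1 q (hR _ (Ideal.LiesOver.over (P := Q) (p := p)).le)
    rw [hQq, add_right_comm] at key
    exact (ENat.add_le_add_iff_right ENat.one_ne_top).1 key

theorem eq_of_adjoin (n : ℕ) : ∀ (R : Type u) [CommRing R] [IsDomain R] [IsNoetherianRing R]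
    (S : Type u) [CommRing S] [IsDomain S] [Algebra R S] [FaithfulSMul R S] (s : Finset S),
    s.card ≤ n → Algebra.adjoin R (s : Set S) = ⊤ →
    ∀ (p : Ideal R) [p.IsPrime] (_ : CatOver R S p) (q : Ideal S) [q.IsPrime] [q.LiesOver p],
      q.height + tr (R ⧸ p) (S ⧸ q) = p.height + tr R S := by
  induction n with
  | zero =>
    intro R _ _ _ S _ _ _ _ s hs htop p _ hR q _ _
    have hS : Algebra.adjoin R ({0} : Set S) = ⊤ := by
      rw [Finset.card_eq_zero.1 (Nat.le_zero.1 hs), Finset.coe_empty] at htop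
      exact top_unique (htop.symm.le.trans (Algebra.adjoin_mono (Set.empty_subset _)))
    exact eq_singleton hS p (eqlen_of_catOver hR) q
  | succ n ih =>
    intro R _ _ _ S _ _ _ _ s hs htop p _ hR q _ _
    classical
    haveI : Algebra.FiniteType R S := ⟨⟨s, htop⟩⟩
    haveI : IsNoetherianRing S := Algebra.FiniteType.isNoetherianRing R S
    rcases s.eq_empty_or_nonempty with rfl | ⟨a, ha⟩
    · refine eq_singleton (x := (0 : S)) (top_unique (htop.symm.le.trans (Algebra.adjoin_mono ?_))) p (eqlen_of_catOver hR) q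
      simp
    let R1 : Subalgebra R S := Algebra.adjoin R ({a} : Set S)
    haveI : FaithfulSMul R R1 := (faithfulSMul_iff_algebraMap_injective R R1).2 fun x y hxy =>
      FaithfulSMul.algebraMap_injective R S (congrArg Subtype.val hxy)
    let x : R1 := ⟨a, Algebra.self_mem_adjoin_singleton R a⟩
    have hx : Algebra.adjoin R ({x} : Set R1) = ⊤ := by
      rw [← Algebra.adjoin_adjoin_coe_preimage (R := R) (A := S) (s := {a})]
      congr 1
      exact Set.ext fun z => ⟨fun h => congrArg Subtype.val h, fun h => Subtype.ext h⟩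
    haveI : Algebra.FiniteType R R1 := ⟨⟨{x}, by rw [Finset.coe_singleton]; exact hx⟩⟩
    haveI : IsNoetherianRing R1 := Algebra.FiniteType.isNoetherianRing R R1
    have htop1 : Algebra.adjoin R1 ((s.erase a : Finset S) : Set S) = ⊤ := by
      refine Subalgebra.restrictScalars_injective R ?_
      rw [← Algebra.adjoin_union_eq_adjoin_adjoin, Subalgebra.restrictScalars_top, ← htop]
      congr 1
      rw [Finset.coe_erase, Set.singleton_union, Set.insert_sdiff_singleton, Set.insert_eq_of_mem (Finset.mem_coe.2 ha)]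
    let p1 := q.under R1
    haveI : p1.LiesOver p := ⟨by
      rw [Ideal.LiesOver.over (P := q) (p := p)]
      exact (Ideal.under_under q).symm⟩
    haveI : q.LiesOver p1 := ⟨rfl⟩
    have h2 := ih R1 S (s.erase a) (by rw [Finset.card_erase_of_mem ha]; omega) htop1 p1 (hR.step p1 (Ideal.LiesOver.over (P := p1) (p := p)).le) q
    have h1 := eq_singleton hx p (eqlen_of_catOver (hR.sub R1)) p1
    haveI := faithfulSMul_quotient p p1
    haveI := faithfulSMul_quotient p1 q
    haveI : IsScalarTower (R ⧸ p) (R1 ⧸ p1) (S ⧸ q) := IsScalarTower.of_algebraMap_eq fun z => by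
      obtain ⟨r, rfl⟩ := Ideal.Quotient.mk_surjective z
      rfl
    have e1 : tr (R ⧸ p) (R1 ⧸ p1) + tr (R1 ⧸ p1) (S ⧸ q) = tr (R ⧸ p) (S ⧸ q) := by
      rw [tr, tr, tr, ← map_add, trdeg_add_eq]
    have e2 : tr R R1 + tr R1 S = tr R S := by
      rw [tr, tr, tr, ← map_add, trdeg_add_eq]
    rw [← e1, ← e2]
    calc q.height + (tr (R ⧸ p) (R1 ⧸ p1) + tr (R1 ⧸ p1) (S ⧸ q))
        = (q.height + tr (R1 ⧸ p1) (S ⧸ q)) + tr (R ⧸ p) (R1 ⧸ p1) := by ring
      _ = (p1.height + tr (R ⧸ p) (R1 ⧸ p1)) + tr R1 S := by rw [h2]; ring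
      _ = p.height + (tr R R1 + tr R1 S) := by rw [h1]; ring

end Groth.Agent.UCat26.Below
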