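import Groth.Agent.Lib.UCat26.DimFun
import Groth.Agent.Lib.RegLoc.Basic

/-! # Dimension functions from regularity and Jacobson -/

set_option autoImplicit false
universe u

set_option backward.isDefEq.respectTransparency.types false

open CategoryTheory AlgebraicGeometry Order

namespace Groth.Agent.UCat26

/-- In a catenary Noetherian domain heights go up by one along covering pairs of primes. -/
theorem height_eq_add_one_of_covBy {T : Type u} [CommRing T] [IsDomain T] [IsNoetherianRing T]
    (hT : CAlg.IsCatenary T) {P Q : PrimeSpectrum T} (h : P ⋖ Q) : Order.height Q = Order.height P + 1 := by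
  have hf : ∀ R : PrimeSpectrum T, Order.height R ≠ ⊤ := fun R => by
    rw [← PrimeSpectrum.height_eq_orderHeight]; exact Ideal.height_ne_top_of_isPrime
  obtain ⟨s, hs, hsn⟩ := Order.exists_series_of_height_eq_coe P (ENat.natCast_toNat (hf P)).symm
  obtain ⟨t, ht, htn⟩ := Order.exists_series_of_height_eq_coe Q (ENat.natCast_toNat (hf Q)).symm
  have hsl : (s.length : ℕ∞) = Order.height s.last := by rw [hs, hsn, ENat.natCast_toNat (hf P)]
  have htl : (t.length : ℕ∞) = Order.height t.last := by rw [ht, htn, ENat.natCast_toNat (hf Q)]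
  have hshead : s.head = ⊥ := by
    have := Order.height_eq_index_of_length_eq_height_last hsl 0
    exact (Order.height_eq_zero.1 this).eq_bot
  have hthead : t.head = ⊥ := by
    have := Order.height_eq_index_of_length_eq_height_last htl 0
    exact (Order.height_eq_zero.1 this).eq_bot
  let a : LTSeries (PrimeSpectrum T) :=
    { length := s.length + 1
      toFun := Fin.snoc (α := fun _ => PrimeSpectrum T) s.toFun Q
      step := fun i => by
        induction i using Fin.lastCases with
        | last =>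
          show (Fin.snoc (α := fun _ => PrimeSpectrum T) s.toFun Q (Fin.castSucc (Fin.last s.length)) : PrimeSpectrum T) <
            Fin.snoc (α := fun _ => PrimeSpectrum T) s.toFun Q (Fin.succ (Fin.last s.length))
          rw [Fin.snoc_castSucc, Fin.succ_last, Fin.snoc_last]
          exact lt_of_eq_of_lt hs h.lt
        | cast j =>
          show (Fin.snoc (α := fun _ => PrimeSpectrum T) s.toFun Q (Fin.castSucc j.castSucc) : PrimeSpectrum T) <
            Fin.snoc (α := fun _ => PrimeSpectrum T) s.toFun Q (Fin.succ j.castSucc)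
          rw [Fin.succ_castSucc, Fin.snoc_castSucc, Fin.snoc_castSucc]
          exact s.step j }
  have hcov : ∀ i : Fin a.length, a i.castSucc ⋖ a i.succ := by
    intro i
    induction i using Fin.lastCases with
    | last =>
      show (Fin.snoc (α := fun _ => PrimeSpectrum T) s.toFun Q (Fin.castSucc (Fin.last s.length)) : PrimeSpectrum T) ⋖
        Fin.snoc (α := fun _ => PrimeSpectrum T) s.toFun Q (Fin.succ (Fin.last s.length))
      rw [Fin.snoc_castSucc, Fin.succ_last, Fin.snoc_last]
      exact (show s.toFun (Fin.last s.length) = P from hs) ▸ h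
    | cast j =>
      show (Fin.snoc (α := fun _ => PrimeSpectrum T) s.toFun Q (Fin.castSucc j.castSucc) : PrimeSpectrum T) ⋖
        Fin.snoc (α := fun _ => PrimeSpectrum T) s.toFun Q (Fin.succ j.castSucc)
      rw [Fin.succ_castSucc, Fin.snoc_castSucc, Fin.snoc_castSucc]
      exact covBy_of_length_eq s (by rw [hs]; exact hf P) hsl j
  have hlast : a.last = t.last := by
    show (Fin.snoc (α := fun _ => PrimeSpectrum T) s.toFun Q (Fin.last (s.length + 1)) : PrimeSpectrum T) = _
    rw [Fin.snoc_last, ht]
  have hhead : a.head = t.head := by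
    show (Fin.snoc (α := fun _ => PrimeSpectrum T) s.toFun Q (Fin.castSucc 0) : PrimeSpectrum T) = _
    rw [Fin.snoc_castSucc]
    exact hshead.trans hthead.symm
  have hlen := hT.2 a t hhead hlast hcov (covBy_of_length_eq t (by rw [ht]; exact hf Q) htl)
  change s.length + 1 = t.length at hlen
  rw [← ENat.natCast_toNat (hf P), ← ENat.natCast_toNat (hf Q), ← hsn, ← htn, ← hlen]
  push_cast; rfl

variable {X : Scheme.{u}}

theorem height_eq_coheight_fromSpecStalk (t : X) (p : PrimeSpectrum (X.presheaf.stalk t)) :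
    Order.height p = Order.coheight (X.fromSpecStalk t p) := by
  rw [← Order.height_toDual]
  refine Order.height_eq_of_strictMono (α := PrimeSpectrum (X.presheaf.stalk t)) (fun q => OrderDual.toDual (X.fromSpecStalk t q)) ?_ ?_ p
  · intro q q' hqq
    exact lt_of_le_not_ge ((specializes_map_iff _ (X.fromSpecStalk t).isEmbedding _ _).2 hqq.le)
      fun hh => hqq.not_ge ((specializes_map_iff _ (X.fromSpecStalk t).isEmbedding _ _).1 hh)
  · intro q b hb
    have hr : OrderDual.ofDual b ∈ Set.range (X.fromSpecStalk t) := by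
      rw [Scheme.range_fromSpecStalk]
      have hq : X.fromSpecStalk t q ∈ Set.range (X.fromSpecStalk t) := ⟨q, rfl⟩
      rw [Scheme.range_fromSpecStalk] at hq
      exact (show OrderDual.ofDual b ⤳ X.fromSpecStalk t q from hb.le).trans hq
    obtain ⟨w, hw⟩ := hr
    refine ⟨w, ?_, congrArg OrderDual.toDual hw⟩
    have hb' : X.fromSpecStalk t q < X.fromSpecStalk t w := hw ▸ hb
    exact lt_of_le_not_ge ((specializes_map_iff _ (X.fromSpecStalk t).isEmbedding _ _).1 hb'.le)
      fun hh => hb'.not_ge ((specializes_map_iff _ (X.fromSpecStalk t).isEmbedding _ _).2 hh)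

theorem isDimFun_neg_stalkDim [IsLocallyNoetherian X]
    (hreg : ∀ s : X, IsRegularLocalRing (X.presheaf.stalk s))
    (huc : ∀ s : X, CAlg.IsUniversallyCatenary (X.presheaf.stalk s)) (δ : X → ℤ)
    (hδ : ∀ s : X, ringKrullDim (X.presheaf.stalk s) = ((-δ s).toNat : WithBot ℕ∞) ∧ δ s ≤ 0) :
    Cyc.IsDimFun X δ := by
  have hc : ∀ s, Order.coheight s = ((-δ s).toNat : ℕ∞) := fun s =>
    WithBot.coe_eq_coe.1 ((AlgebraicGeometry.ringKrullDim_stalk_eq_coheight s).symm.trans (hδ s).1)
  intro x y h hne
  have hlt : y < x := lt_of_le_not_ge h fun h' => hne (Specializes.antisymm h (show y ⤳ x from h')).eq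
  have h1 := Order.coheight_add_one_le hlt
  rw [hc, hc] at h1
  have h1' : (-δ x).toNat + 1 ≤ (-δ y).toNat := by exact_mod_cast h1
  have := (hδ x).2; have := (hδ y).2
  refine ⟨by omega, fun himm => ?_⟩
  haveI := hreg y
  haveI := RegLoc.isDomain (X.presheaf.stalk y)
  obtain ⟨P, hP⟩ : ∃ P : PrimeSpectrum (X.presheaf.stalk y), X.fromSpecStalk y P = x := by
    obtain ⟨P, hP⟩ : x ∈ Set.range (X.fromSpecStalk y) := by rw [Scheme.range_fromSpecStalk]; exact h
    exact ⟨P, hP⟩
  let Q : PrimeSpectrum (X.presheaf.stalk y) := IsLocalRing.closedPoint _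
  have hQ : X.fromSpecStalk y Q = y := Scheme.fromSpecStalk_closedPoint
  have hPQ : P ⋖ Q := by
    refine ⟨lt_of_le_of_ne ((PrimeSpectrum.asIdeal_le_asIdeal _ _).1 (IsLocalRing.le_maximalIdeal P.isPrime.ne_top))
      fun e => hne (hP.symm.trans ((congrArg (X.fromSpecStalk y) e).trans hQ)), fun c h1 h2 => ?_⟩
    have hi : ∀ a b : PrimeSpectrum (X.presheaf.stalk y), a ≤ b → X.fromSpecStalk y a ⤳ X.fromSpecStalk y b :=
      fun a b => (specializes_map_iff _ (X.fromSpecStalk y).isEmbedding _ _).2
    rcases himm (X.fromSpecStalk y c) ((specializes_of_eq hP.symm).trans (hi _ _ h1.le))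
      ((hi _ _ h2.le).trans (specializes_of_eq hQ)) with e | e
    · exact h1.ne' ((X.fromSpecStalk y).isEmbedding.injective (e.trans hP.symm))
    · exact h2.ne ((X.fromSpecStalk y).isEmbedding.injective (e.trans hQ.symm))
  have key := height_eq_add_one_of_covBy (UCat.isCatenary_of_isUniversallyCatenary (huc y)) hPQ
  rw [height_eq_coheight_fromSpecStalk, height_eq_coheight_fromSpecStalk, hQ, hP, hc, hc] at key
  have key' : (-δ y).toNat = (-δ x).toNat + 1 := by exact_mod_cast key
  omega

/-- On a Jacobson scheme with `δ = 0` at closed points, `δ ξ` is the dimension of the closure. -/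
theorem topologicalKrullDim_closure [JacobsonSpace X] {δ : X → ℤ} (hd : Cyc.IsDimFun X δ)
    (h0 : ∀ x : X, IsClosed ({x} : Set X) → δ x = 0) (ξ : X) :
    topologicalKrullDim ↥(closure ({ξ} : Set X)) = ((δ ξ).toNat : WithBot ℕ∞) ∧ 0 ≤ δ ξ := by
  have hclosed : ∀ x : X, ∃ z, x ⤳ z ∧ IsClosed ({z} : Set X) := fun x => by
    have hne : (closure ({x} : Set X) ∩ closedPoints X).Nonempty := by
      by_contra hh
      rw [Set.not_nonempty_iff_eq_empty] at hh
      have := JacobsonSpace.closure_inter_closedPoints (X := X) (isClosed_closure (s := ({x} : Set X)))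
      rw [hh, closure_empty] at this
      exact Set.notMem_empty x (this.symm ▸ subset_closure rfl)
    obtain ⟨z, hz, hz'⟩ := hne
    exact ⟨z, specializes_iff_mem_closure.2 hz, hz'⟩
  have hpos : ∀ x, 0 ≤ δ x := fun x => by
    obtain ⟨z, hz, hz'⟩ := hclosed x
    rw [← h0 z hz']
    exact delta_le_of_specializes hd hz
  refine ⟨?_, hpos ξ⟩
  obtain ⟨z, hz, hz'⟩ := hclosed ξ
  haveI : QuasiSober ↥(closure ({ξ} : Set X)) :=
    isClosed_closure.isClosedEmbedding_subtypeVal.quasiSober
  rw [topologicalKrullDim, ← Order.krullDim_orderDual]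
  have hspec : ∀ a b : ↥(closure ({ξ} : Set X)), a ⤳ b ↔ (a : X) ⤳ (b : X) := fun a b =>
    Topology.IsInducing.subtypeVal.specializes_iff.symm
  let e := (irreducibleSetEquivPoints (α := ↥(closure ({ξ} : Set X)))).toEquiv
  have hmap : ∀ a b, a ≤ b ↔ e b ⤳ e a := fun a b =>
    (irreducibleSetEquivPoints (α := ↥(closure ({ξ} : Set X)))).map_rel_iff'.symm
  have := krullDim_eq hd hz (P := (TopologicalSpace.IrreducibleCloseds ↥(closure ({ξ} : Set X)))ᵒᵈ)
    (fun p => ((e (OrderDual.ofDual p) : ↥(closure ({ξ} : Set X))) : X))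
    (fun p q => (hmap _ _).trans (hspec (e (OrderDual.ofDual p)) (e (OrderDual.ofDual q))))
    (fun p => ⟨specializes_iff_mem_closure.2 (e (OrderDual.ofDual p)).2, by rw [h0 z hz']; exact hpos _⟩)
    (fun w hw _ => ⟨OrderDual.toDual (e.symm ⟨w, specializes_iff_mem_closure.1 hw⟩), by
      rw [OrderDual.ofDual_toDual, e.apply_symm_apply]⟩)
  rw [this, h0 z hz', sub_zero]

end Groth.Agent.UCat26
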